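import Mathlib

/-!
# Generators after extension of scalars (helper5)
-/

set_option autoImplicit false
universe u
open CategoryTheory TensorProduct

namespace Groth.Agent.Lib.Helper5.FtDesc

section Plain

variable {R S : Type u} [CommRing R] [CommRing S] [Algebra R S]
  (N : Type u) [AddCommGroup N] [Module R N]

/-- if `S ⊗ N` is a finite `S`-module, finitely many elements `1 ⊗ t` generate it -/
theorem exists_finite_gen_tmul' (hfin : Module.Finite S (S ⊗[R] N)) :
    ∃ (n : ℕ) (t : Fin n → N), Submodule.span S (Set.range fun j =>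
      ((1 : S) ⊗ₜ[R] t j : S ⊗[R] N)) = ⊤ := by
  let T : Set (S ⊗[R] N) := Set.range fun t : N => ((1 : S) ⊗ₜ[R] t : S ⊗[R] N)
  have hT : Submodule.span S T = ⊤ := by
    rw [eq_top_iff]
    intro z _
    induction z using TensorProduct.induction_on with
    | zero => exact Submodule.zero_mem _
    | tmul s t =>
      have : (s ⊗ₜ[R] t : S ⊗[R] N) = s • ((1 : S) ⊗ₜ[R] t : S ⊗[R] N) := by
        rw [TensorProduct.smul_tmul', smul_eq_mul, mul_one]
      rw [this]
      exact Submodule.smul_mem _ _ (Submodule.subset_span ⟨t, rfl⟩)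
    | add a b ha hb => exact Submodule.add_mem _ (ha trivial) (hb trivial)
  have hfg : (Submodule.span S T).FG := by
    rw [hT]
    exact Module.Finite.fg_top
  obtain ⟨s', hs'T, hs'⟩ := (Submodule.fg_span_iff_fg_span_finset_subset T).1 hfg
  have hch : ∀ e : s', ∃ t : N, ((1 : S) ⊗ₜ[R] t : S ⊗[R] N) = e.1 := fun e => hs'T e.2
  choose tt htt using hch
  refine ⟨s'.card, fun j => tt (s'.equivFin.symm j), ?_⟩
  rw [eq_top_iff, ← hT, hs']
  apply Submodule.span_le.2
  intro e he
  apply Submodule.subset_span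
  refine ⟨s'.equivFin ⟨e, he⟩, ?_⟩
  show ((1 : S) ⊗ₜ[R] tt (s'.equivFin.symm (s'.equivFin ⟨e, he⟩)) : S ⊗[R] N) = e
  rw [Equiv.symm_apply_apply, htt]

/-- faithfully flat descent of generators -/
theorem span_eq_top_of_tmul' [Module.FaithfullyFlat R S] {n : ℕ} (t : Fin n → N)
    (h : Submodule.span S (Set.range fun j => ((1 : S) ⊗ₜ[R] t j : S ⊗[R] N)) = ⊤) :
    Submodule.span R (Set.range t) = ⊤ := by
  let φ : (Fin n → R) →ₗ[R] N := Fintype.linearCombination R t
  have hφ : LinearMap.range φ = Submodule.span R (Set.range t) :=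
    Fintype.range_linearCombination R t
  rw [← hφ, LinearMap.range_eq_top]
  rw [← Module.FaithfullyFlat.lTensor_surjective_iff_surjective R S]
  have hbc : LinearMap.range (φ.baseChange S) = ⊤ := by
    rw [eq_top_iff, ← h, Submodule.span_le]
    rintro _ ⟨j, rfl⟩
    refine ⟨(1 : S) ⊗ₜ[R] (Pi.single j (1 : R) : Fin n → R), ?_⟩
    rw [LinearMap.baseChange_tmul]
    congr 1
    simp [φ, Fintype.linearCombination_apply]
  intro z
  obtain ⟨w, hw⟩ := LinearMap.range_eq_top.1 hbc z
  exact ⟨w, hw⟩

end Plain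

variable {R S : Type u} [CommRing R] [CommRing S] (g : R →+* S)

/-- the element `1 ⊗ t` of the extension of scalars -/
noncomputable def tm1 (N : ModuleCat.{u} R) (t : N) :
    ((ModuleCat.extendScalars.{u, u, u} g).obj N : Type u) :=
  letI := g.toAlgebra
  ((1 : S) ⊗ₜ[R] t : S ⊗[R] N)

theorem exists_finite_gen_tmul (N : ModuleCat.{u} R)
    (hfin : Module.Finite S ((ModuleCat.extendScalars.{u, u, u} g).obj N)) :
    ∃ (n : ℕ) (t : Fin n → N), Submodule.span S (Set.range fun j => tm1 g N (t j)) = ⊤ := by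
  letI := g.toAlgebra
  exact exists_finite_gen_tmul' (R := R) (S := S) N hfin

theorem span_eq_top_of_tmul (N : ModuleCat.{u} R)
    (hff : letI := g.toAlgebra; Module.FaithfullyFlat R S)
    {n : ℕ} (t : Fin n → N)
    (h : Submodule.span S (Set.range fun j => tm1 g N (t j)) = ⊤) :
    Submodule.span R (Set.range t) = ⊤ := by
  letI := g.toAlgebra
  haveI : Module.FaithfullyFlat R S := hff
  exact span_eq_top_of_tmul' (R := R) (S := S) N t h

end Groth.Agent.Lib.Helper5.FtDesc
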