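import Mathlib
import Groth.Agent.Lib.Helper5.Stalk.Pull
import Groth.Agent.Lib.Helper5.SiteGen.Top

/-!
# Finite type in terms of stalks (helper5)
-/

set_option autoImplicit false
set_option linter.unusedSectionVars false
set_option linter.unusedVariables false
universe u
open CategoryTheory CategoryTheory.Limits Opposite TopologicalSpace AlgebraicGeometry TensorProduct
open Groth.Agent.Lib.Helper5.Misc.StalkTensor Groth.Agent.Lib.Helper5.Sky
open Groth.Agent.Lib.Helper5.StalkAdj Groth.Agent.Lib.Helper5.SiteGen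

namespace Groth.Agent.Lib.Helper5.FtDesc

variable {X : Scheme.{u}}

/-- the underlying presheaf of modules -/
noncomputable abbrev pm (M : X.Modules) : PMod X.presheaf := (fgtS X).obj M

/-- restriction of sections -/
noncomputable abbrev rr (M : X.Modules) {U V : X.Opens} (h : V ≤ U) :
    (pm M).obj (op U) →+ (pm M).obj (op V) :=
  res (R := X.ringCatSheaf) M (homOfLE h)

theorem rr_rr (M : X.Modules) {U V W : X.Opens} (h₁ : V ≤ U) (h₂ : W ≤ V) (t : (pm M).obj (op U)) :
    rr M h₂ (rr M h₁ t) = rr M (h₂.trans h₁) t :=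
  res_comp (R := X.ringCatSheaf) M (homOfLE h₁) (homOfLE h₂) t

theorem rr_smul (M : X.Modules) {U V : X.Opens} (h : V ≤ U) (r : Γ(X, U)) (t : (pm M).obj (op U)) :
    rr M h (r • t) = (X.presheaf.map (homOfLE h).op).hom r • rr M h t :=
  res_smul (R := X.ringCatSheaf) M (homOfLE h) r t

theorem gm_rr (M : X.Modules) (x : X) {U V : X.Opens} (h : V ≤ U) (hx : x ∈ V)
    (t : (pm M).obj (op U)) :
    gm (pm M) x V hx (rr M h t) = gm (pm M) x U (h hx) t :=
  gm_res (pm M) x (homOfLE h) hx t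

/-- the sections `σ` generate the stalk of `M` at `x` -/
def GenAt (M : X.Modules) (x : X) {U : X.Opens} (hx : x ∈ U) {n : ℕ}
    (σ : Fin n → (pm M).obj (op U)) : Prop :=
  Submodule.span (X.presheaf.stalk x) (Set.range fun j => gm (pm M) x U hx (σ j)) = ⊤

theorem genAt_rr (M : X.Modules) (x : X) {U V : X.Opens} (h : V ≤ U) (hx : x ∈ V) {n : ℕ}
    (σ : Fin n → (pm M).obj (op U)) :
    GenAt M x hx (fun j => rr M h (σ j)) ↔ GenAt M x (h hx) σ := by
  unfold GenAt
  simp only [gm_rr]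

/-- `M` is locally generated by finitely many sections, stalkwise -/
def LocStalkSpan (M : X.Modules) : Prop :=
  ∀ x : X, ∃ (U : X.Opens) (_ : x ∈ U) (n : ℕ) (σ : Fin n → (pm M).obj (op U)),
    ∀ (x' : X) (hx' : x' ∈ U), GenAt M x' hx' σ

theorem gm_mem_span (M : X.Modules) (x : X) {W : X.Opens} (hx : x ∈ W) {ι : Type*}
    (v : ι → (pm M).obj (op W)) {m : (pm M).obj (op W)}
    (hm : m ∈ Submodule.span Γ(X, W) (Set.range v)) :
    gm (pm M) x W hx m ∈ Submodule.span (X.presheaf.stalk x)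
      (Set.range fun j => gm (pm M) x W hx (v j)) := by
  induction hm using Submodule.span_induction with
  | mem y hy =>
    obtain ⟨j, rfl⟩ := hy
    exact Submodule.subset_span ⟨j, rfl⟩
  | zero => rw [map_zero]; exact Submodule.zero_mem _
  | add a b _ _ ha hb => rw [map_add]; exact Submodule.add_mem _ ha hb
  | smul r a _ ha => rw [gm_smul]; exact Submodule.smul_mem _ _ ha

/-- finitely many germs of functions are defined on a common neighbourhood -/
theorem exists_common_rep (x : X) {n : ℕ} (c : Fin n → X.presheaf.stalk x) :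
    ∃ (W : X.Opens) (hW : x ∈ W) (γ : Fin n → Γ(X, W)),
      ∀ j, gr (R := X.presheaf) x W hW (γ j) = c j := by
  choose Wj hWj γj hγj using fun j => TopCat.Presheaf.exists_germ_eq X.presheaf (x := x) (c j)
  have hW : x ∈ (⨅ j, Wj j : X.Opens) := by
    show x ∈ ((⨅ j, Wj j : X.Opens) : Set X)
    rw [Opens.coe_iInf]
    exact Set.mem_iInter.2 hWj
  refine ⟨⨅ j, Wj j, hW, fun j => (X.presheaf.map (homOfLE (iInf_le Wj j)).op).hom (γj j), ?_⟩
  intro j
  rw [← hγj j]
  exact TopCat.Presheaf.germ_res_apply X.presheaf (homOfLE (iInf_le Wj j)) x hW (γj j)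

theorem locStalkSpan_of_locSpan (M : X.Modules) (h : LocSpan (R := X.ringCatSheaf) M) :
    LocStalkSpan M := by
  intro x
  obtain ⟨U, hxU, n, σ, H⟩ := h x
  refine ⟨U, hxU, n, σ, ?_⟩
  intro x' hx'
  unfold GenAt
  rw [eq_top_iff]
  intro a _
  obtain ⟨V, hV, m, rfl⟩ := gm_exists (pm M) x' a
  obtain ⟨W, hW, hx'W, hspan⟩ := H (V ⊓ U) inf_le_right (rr M inf_le_left m) x' ⟨hV, hx'⟩
  have h1 := gm_mem_span M x' hx'W _ hspan
  have h2 : gm (pm M) x' W hx'W (rr M hW (rr M inf_le_left m)) = gm (pm M) x' V hV m := by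
    rw [gm_rr, gm_rr]
  have h3 : (fun j => gm (pm M) x' W hx'W (rr M (hW.trans inf_le_right) (σ j))) =
      fun j => gm (pm M) x' U hx' (σ j) := by
    funext j
    rw [gm_rr]
  rw [← h2]
  rw [← h3]
  exact h1

theorem locSpan_of_locStalkSpan (M : X.Modules) (h : LocStalkSpan M) :
    LocSpan (R := X.ringCatSheaf) M := by
  intro x
  obtain ⟨U, hxU, n, σ, H⟩ := h x
  refine ⟨U, hxU, n, σ, ?_⟩
  intro V hV t y hy
  have hgen := H y (hV hy)
  unfold GenAt at hgen
  have hmem : gm (pm M) y V hy t ∈ Submodule.span (X.presheaf.stalk y)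
      (Set.range fun j => gm (pm M) y U (hV hy) (σ j)) := hgen ▸ Submodule.mem_top
  obtain ⟨c, hc⟩ := (Submodule.mem_span_range_iff_exists_fun _).1 hmem
  obtain ⟨W₀, hW₀, γ, hγ⟩ := exists_common_rep y c
  -- the candidate on `W₁ = W₀ ⊓ V`
  let W₁ : X.Opens := W₀ ⊓ V
  have hyW₁ : y ∈ W₁ := ⟨hW₀, hy⟩
  let cand : (pm M).obj (op W₁) :=
    ∑ j, (X.presheaf.map (homOfLE (inf_le_left : W₁ ≤ W₀)).op).hom (γ j) •
      rr M ((inf_le_right : W₁ ≤ V).trans hV) (σ j)
  have hgerm : gm (pm M) y W₁ hyW₁ cand = gm (pm M) y W₁ hyW₁ (rr M inf_le_right t) := by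
    rw [gm_rr, ← hc, map_sum]
    refine Finset.sum_congr rfl fun j _ => ?_
    rw [gm_smul, gm_rr, ← hγ j]
    congr 1
    exact TopCat.Presheaf.germ_res_apply X.presheaf (homOfLE (inf_le_left : W₁ ≤ W₀)) y hyW₁ (γ j)
  obtain ⟨W, hyW, iU, iV, heq⟩ := TopCat.Presheaf.germ_eq (pm M).presheaf y hyW₁ hyW₁ _ _ hgerm
  have hWW₁ : W ≤ W₁ := leOfHom iU
  refine ⟨W, hWW₁.trans inf_le_right, hyW, ?_⟩
  have e1 : rr M (hWW₁.trans inf_le_right) t = rr M hWW₁ cand := by
    have := heq.symm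
    rw [← rr_rr M inf_le_right hWW₁]
    exact this
  change rr M (hWW₁.trans inf_le_right) t ∈ Submodule.span Γ(X, W)
    (Set.range fun j => rr M ((hWW₁.trans inf_le_right).trans hV) (σ j))
  rw [e1]
  simp only [cand, map_sum, rr_smul, rr_rr]
  refine Submodule.sum_mem _ fun j _ => ?_
  exact Submodule.smul_mem _ _ (Submodule.subset_span ⟨j, rfl⟩)

theorem isFiniteType_iff_locStalkSpan (M : X.Modules) :
    SheafOfModules.IsFiniteType.{u} (R := X.ringCatSheaf) M ↔ LocStalkSpan M := by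
  rw [isFiniteType_iff_locSpan]
  exact ⟨locStalkSpan_of_locSpan M, locSpan_of_locStalkSpan M⟩

end Groth.Agent.Lib.Helper5.FtDesc
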