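import Mathlib
import Groth.Agent.Lib.Helper5.FtDesc.Stalk

/-!
# Generation of stalks spreads out, for modules of finite type (helper5)
-/

set_option autoImplicit false
set_option linter.unusedSectionVars false
set_option linter.unusedVariables false
universe u
open CategoryTheory CategoryTheory.Limits Opposite TopologicalSpace AlgebraicGeometry TensorProduct
open Groth.Agent.Lib.Helper5.Misc.StalkTensor Groth.Agent.Lib.Helper5.Sky
open Groth.Agent.Lib.Helper5.StalkAdj Groth.Agent.Lib.Helper5.SiteGen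

namespace Groth.Agent.Lib.Helper5.FtDesc

variable {X : Scheme.{u}}

/-- finitely many germs of sections are defined on a common neighbourhood -/
theorem exists_common_rep_mod (M : X.Modules) (x : X) {n : ℕ} (c : Fin n → St (pm M) x) :
    ∃ (W : X.Opens) (hW : x ∈ W) (γ : Fin n → (pm M).obj (op W)),
      ∀ j, gm (pm M) x W hW (γ j) = c j := by
  choose Wj hWj γj hγj using fun j => gm_exists (pm M) x (c j)
  have hW : x ∈ (⨅ j, Wj j : X.Opens) := by
    show x ∈ ((⨅ j, Wj j : X.Opens) : Set X)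
    rw [Opens.coe_iInf]
    exact Set.mem_iInter.2 hWj
  refine ⟨⨅ j, Wj j, hW, fun j => rr M (iInf_le Wj j) (γj j), ?_⟩
  intro j
  rw [← hγj j, gm_rr]

/-- if the germ of `t` lies in the span of the germs of the `s j`, the same holds for sections
on a neighbourhood -/
theorem exists_nhd_mem_span (M : X.Modules) (y : X) {V U : X.Opens} (hyV : y ∈ V) (hyU : y ∈ U)
    (t : (pm M).obj (op V)) {n : ℕ} (s : Fin n → (pm M).obj (op U))
    (hmem : gm (pm M) y V hyV t ∈ Submodule.span (X.presheaf.stalk y)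
      (Set.range fun j => gm (pm M) y U hyU (s j))) :
    ∃ (W : X.Opens) (hWV : W ≤ V) (hWU : W ≤ U), y ∈ W ∧
      rr M hWV t ∈ Submodule.span Γ(X, W) (Set.range fun j => rr M hWU (s j)) := by
  obtain ⟨c, hc⟩ := (Submodule.mem_span_range_iff_exists_fun _).1 hmem
  obtain ⟨W₀, hW₀, γ, hγ⟩ := exists_common_rep y c
  let W₁ : X.Opens := W₀ ⊓ (V ⊓ U)
  have hyW₁ : y ∈ W₁ := ⟨hW₀, hyV, hyU⟩
  have hW₁V : W₁ ≤ V := inf_le_right.trans inf_le_left
  have hW₁U : W₁ ≤ U := inf_le_right.trans inf_le_right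
  let cand : (pm M).obj (op W₁) :=
    ∑ j, (X.presheaf.map (homOfLE (inf_le_left : W₁ ≤ W₀)).op).hom (γ j) • rr M hW₁U (s j)
  have hgerm : gm (pm M) y W₁ hyW₁ cand = gm (pm M) y W₁ hyW₁ (rr M hW₁V t) := by
    rw [gm_rr, ← hc, map_sum]
    refine Finset.sum_congr rfl fun j _ => ?_
    rw [gm_smul, gm_rr, ← hγ j]
    congr 1
    exact TopCat.Presheaf.germ_res_apply X.presheaf (homOfLE (inf_le_left : W₁ ≤ W₀)) y hyW₁ (γ j)
  obtain ⟨W, hyW, iU, iV, heq⟩ := TopCat.Presheaf.germ_eq (pm M).presheaf y hyW₁ hyW₁ _ _ hgerm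
  have hWW₁ : W ≤ W₁ := leOfHom iU
  refine ⟨W, hWW₁.trans hW₁V, hWW₁.trans hW₁U, hyW, ?_⟩
  have e1 : rr M (hWW₁.trans hW₁V) t = rr M hWW₁ cand := by
    have := heq.symm
    rw [← rr_rr M hW₁V hWW₁]
    exact this
  rw [e1]
  simp only [cand, map_sum, rr_smul, rr_rr]
  refine Submodule.sum_mem _ fun j _ => ?_
  exact Submodule.smul_mem _ _ (Submodule.subset_span ⟨j, rfl⟩)

/-- **generation spreads out**: for a module of finite type, sections generating the stalk at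
`x` generate the stalks on a neighbourhood of `x` -/
theorem genAt_nhds (M : X.Modules) (hM : LocStalkSpan M) (x : X) {W : X.Opens} (hx : x ∈ W)
    {n : ℕ} (s : Fin n → (pm M).obj (op W)) (hs : GenAt M x hx s) :
    ∃ (W' : X.Opens) (hW' : W' ≤ W), x ∈ W' ∧ ∀ (x' : X) (hx' : x' ∈ W'), GenAt M x' (hW' hx') s := by
  obtain ⟨U₀, hxU₀, m, σ, H⟩ := hM x
  have hs' := hs
  unfold GenAt at hs'
  have key : ∀ i : Fin m, ∃ (Wi : X.Opens) (hWiU : Wi ≤ U₀) (hWiW : Wi ≤ W), x ∈ Wi ∧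
      rr M hWiU (σ i) ∈ Submodule.span Γ(X, Wi) (Set.range fun j => rr M hWiW (s j)) := by
    intro i
    exact exists_nhd_mem_span M x hxU₀ hx (σ i) s (hs' ▸ Submodule.mem_top)
  choose Wi hWiU hWiW hxWi hspan using key
  let W' : X.Opens := (⨅ i, Wi i) ⊓ (U₀ ⊓ W)
  have hxW' : x ∈ W' := by
    refine ⟨?_, hxU₀, hx⟩
    show x ∈ ((⨅ i, Wi i : X.Opens) : Set X)
    rw [Opens.coe_iInf]
    exact Set.mem_iInter.2 hxWi
  have hW'W : W' ≤ W := inf_le_right.trans inf_le_right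
  have hW'U₀ : W' ≤ U₀ := inf_le_right.trans inf_le_left
  refine ⟨W', hW'W, hxW', ?_⟩
  intro x' hx'
  have hgen := H x' (hW'U₀ hx')
  unfold GenAt at hgen ⊢
  rw [eq_top_iff, ← hgen, Submodule.span_le]
  rintro _ ⟨i, rfl⟩
  have hx'Wi : x' ∈ Wi i := (inf_le_left.trans (iInf_le Wi i) : W' ≤ Wi i) hx'
  have h1 := gm_mem_span M x' hx'Wi _ (hspan i)
  rw [gm_rr] at h1
  simp only [gm_rr] at h1
  exact h1

end Groth.Agent.Lib.Helper5.FtDesc
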