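import Mathlib
import Groth.Agent.Lib.Helper5.FtDesc.Nhd
import Groth.Agent.Lib.Helper5.FtDesc.Alg
import Groth.Agent.Lib.Helper5.Stalk.Faithful

/-!
# Descent of finite type along flat surjective open morphisms (helper5)
-/

set_option autoImplicit false
set_option linter.unusedSectionVars false
set_option linter.unusedVariables false
universe u
open CategoryTheory CategoryTheory.Limits Opposite TopologicalSpace AlgebraicGeometry TensorProduct
open Groth.Agent.Lib.Helper5.Misc.StalkTensor Groth.Agent.Lib.Helper5.Sky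
open Groth.Agent.Lib.Helper5.StalkAdj Groth.Agent.Lib.Helper5.SiteGen

namespace Groth.Agent.Lib.Helper5.FtDesc

variable {X Y : Scheme.{u}} (f : X ⟶ Y)

/-- the unit section map `F(V) → (f^*F)(f⁻¹V)` -/
noncomputable def etaSec (F : Y.Modules) (V : Y.Opens) :
    (pm F).obj (op V) →+ (pm ((Scheme.Modules.pullback f).obj F)).obj (op (f ⁻¹ᵁ V)) :=
  (((Scheme.Modules.pullbackPushforwardAdjunction f).unit.app F).val.app (op V)).hom.toAddMonoidHom

theorem key (x : X) (F : Y.Modules) :
    (adjPull f x).unit.app F ≫ (skyS X x ⋙ Scheme.Modules.pushforward f).map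
      ((stalkPullbackIso f x).hom.app F) =
    ((adjExt f x).ofNatIsoRight (pushSkyIso f x).symm).unit.app F :=
  Adjunction.unit_leftAdjointUniq_hom_app _ _ F

/-- the stalk identification on germs of pulled back sections -/
theorem stalkPullbackIso_gm (x : X) (F : Y.Modules) (V : Y.Opens) (h : f x ∈ V)
    (τ : (pm F).obj (op V)) :
    ((stalkPullbackIso f x).hom.app F).hom
      (gm (pm ((Scheme.Modules.pullback f).obj F)) x (f ⁻¹ᵁ V) h (etaSec f F V τ)) =
    tm1 (f.stalkMap x).hom ((stalkSh Y (f x)).obj F) (gm (pm F) (f x) V h τ) := by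
  have h1 := key f x F
  have h2 := congrArg (fun φ => (φ.val.app (op V)).hom τ) h1
  have h3 := congrFun h2 ⟨h⟩
  exact h3

/-- pulled back sections generate the stalk at `x` iff the sections generate the stalk at `f x`
after extension of scalars -/
theorem genAt_etaSec_iff (x : X) (F : Y.Modules) (V : Y.Opens) (h : f x ∈ V) {n : ℕ}
    (τ : Fin n → (pm F).obj (op V)) :
    GenAt ((Scheme.Modules.pullback f).obj F) x (U := f ⁻¹ᵁ V) h (fun j => etaSec f F V (τ j)) ↔
      Submodule.span (X.presheaf.stalk x) (Set.range fun j =>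
        tm1 (f.stalkMap x).hom ((stalkSh Y (f x)).obj F) (gm (pm F) (f x) V h (τ j))) = ⊤ := by
  let Φ := ((stalkPullbackIso f x).app F).toLinearEquiv
  have hΦ : ∀ j, Φ (gm (pm ((Scheme.Modules.pullback f).obj F)) x (f ⁻¹ᵁ V) h
      (etaSec f F V (τ j))) =
      tm1 (f.stalkMap x).hom ((stalkSh Y (f x)).obj F) (gm (pm F) (f x) V h (τ j)) :=
    fun j => stalkPullbackIso_gm f x F V h (τ j)
  unfold GenAt
  have hmap : Submodule.map Φ.toLinearMap (Submodule.span (X.presheaf.stalk x)
      (Set.range fun j => gm (pm ((Scheme.Modules.pullback f).obj F)) x (f ⁻¹ᵁ V) h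
        (etaSec f F V (τ j)))) =
      Submodule.span (X.presheaf.stalk x) (Set.range fun j =>
        tm1 (f.stalkMap x).hom ((stalkSh Y (f x)).obj F) (gm (pm F) (f x) V h (τ j))) := by
    rw [Submodule.map_span, ← Set.range_comp]
    congr 2
    funext j
    exact hΦ j
  constructor
  · intro hg
    have htop : Submodule.map Φ.toLinearMap ⊤ = ⊤ := by
      rw [Submodule.map_top]
      exact LinearEquiv.range Φ
    exact hmap.symm.trans ((congrArg (Submodule.map Φ.toLinearMap) hg).trans htop)
  · intro hg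
    have h1 := hmap.trans hg
    have h2 := Submodule.comap_map_eq_of_injective Φ.injective (Submodule.span (X.presheaf.stalk x)
      (Set.range fun j => gm (pm ((Scheme.Modules.pullback f).obj F)) x (f ⁻¹ᵁ V) h
        (etaSec f F V (τ j))))
    rw [h1, Submodule.comap_top] at h2
    exact h2.symm

/-- **descent of finite type**: for `f` flat, surjective and open, `F` is of finite type as soon
as `f^* F` is -/
theorem isFiniteType_of_pullback [Flat f] [Surjective f] (hf : IsOpenMap f.base) (F : Y.Modules)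
    (h : SheafOfModules.IsFiniteType.{u} (R := X.ringCatSheaf)
      ((Scheme.Modules.pullback f).obj F)) :
    SheafOfModules.IsFiniteType.{u} (R := Y.ringCatSheaf) F := by
  rw [isFiniteType_iff_locStalkSpan] at h ⊢
  intro y
  obtain ⟨x, rfl⟩ := f.surjective y
  -- the stalk of `f^* F` at `x` is finite
  obtain ⟨U₀, hxU₀, m, σ, H⟩ := h x
  have hfin : Module.Finite (X.presheaf.stalk x)
      ((stalkSh X x).obj ((Scheme.Modules.pullback f).obj F)) := by
    have hg := H x hxU₀
    unfold GenAt at hg
    refine Module.finite_def.2 ?_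
    have : (⊤ : Submodule (X.presheaf.stalk x)
        ((stalkSh X x).obj ((Scheme.Modules.pullback f).obj F))) =
        Submodule.span (X.presheaf.stalk x) (Set.range fun j =>
          gm (pm ((Scheme.Modules.pullback f).obj F)) x U₀ hxU₀ (σ j)) := hg.symm
    rw [this]
    exact Submodule.fg_span (Set.finite_range _)
  let Φ := ((stalkPullbackIso f x).app F).toLinearEquiv
  have hfin' : Module.Finite (X.presheaf.stalk x)
      ((ModuleCat.extendScalars.{u, u, u} (f.stalkMap x).hom).obj ((stalkSh Y (f x)).obj F)) :=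
    haveI : Module.Finite (X.presheaf.stalk x)
        ((Scheme.Modules.pullback f ⋙ stalkSh X x).obj F) := hfin
    Module.Finite.equiv Φ
  obtain ⟨n, t, ht⟩ := exists_finite_gen_tmul (f.stalkMap x).hom ((stalkSh Y (f x)).obj F) hfin'
  obtain ⟨V, hV, τ, hτ⟩ := exists_common_rep_mod F (f x) t
  have hs : GenAt ((Scheme.Modules.pullback f).obj F) x (U := f ⁻¹ᵁ V) hV
      (fun j => etaSec f F V (τ j)) := by
    rw [genAt_etaSec_iff]
    simp only [hτ]
    exact ht
  obtain ⟨W', hW', hxW', hgen⟩ := genAt_nhds _ h x (W := f ⁻¹ᵁ V) hV _ hs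
  let U : Y.Opens := ⟨f.base '' (W' : Set X), hf _ W'.isOpen⟩
  have hUV : U ≤ V := by
    rintro _ ⟨x', hx', rfl⟩
    exact hW' hx'
  refine ⟨U, ⟨x, hxW', rfl⟩, n, fun j => rr F hUV (τ j), ?_⟩
  intro y' hy'
  obtain ⟨x', hx', rfl⟩ := hy'
  rw [genAt_rr]
  have h1 := hgen x' hx'
  rw [genAt_etaSec_iff] at h1
  exact span_eq_top_of_tmul (f.stalkMap x').hom ((stalkSh Y (f x')).obj F)
    (faithfullyFlat_stalkMap f x') _ h1

end Groth.Agent.Lib.Helper5.FtDesc
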